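import Groth.Agent.AgPol.K814.Graph
import Groth.Agent.AgPol.K814.MumHom
import Groth.Agent.AgPol.K814.Fibre
import Groth.Agent.AbDual.K732.BC
import Groth.Agent.Flat2G.ProperDim
import Groth.Agent.Models2.AmplePull
import Groth.Prelude.Def_AgMod

/-!
# Base change of abelian schemes, polarisations, degrees and level structures
-/

set_option autoImplicit false
universe u

open CategoryTheory Limits MonoidalCategory CartesianMonoidalCategory AlgebraicGeometry
open scoped MonObj

namespace K533.PolBC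

open Groth.Agent Groth.Agent.Grpsch.PicGrp Groth.Agent.Fga.RigGrp K732.PicZero K732.Prim K732.Dual K732.BC
open K528.MumZero

variable {S S' : Scheme.{u}} (k : S' ⟶ S)

/-! ### Abelian schemes -/

theorem isAbSch_bc {A : Over S} {g : ℕ} (hA : AgPol.IsAbSch A g) : AgPol.IsAbSch (Red.bc k A) g := by
  have := hA.smooth
  have := hA.proper
  have := hA.geomConnected
  refine ⟨inferInstanceAs (Smooth (pullback.snd A.hom k)), inferInstanceAs (IsProper (pullback.snd A.hom k)),
    inferInstanceAs (GeometricallyConnected (pullback.snd A.hom k)), fun s => ?_⟩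
  rw [← hA.fibreDim (k s)]
  exact Flat2G.ProperDim.topologicalKrullDim_fiber_baseChange A.hom (Red.bc k A).hom (pullback.fst A.hom k) k
    (IsPullback.of_hasPullback A.hom k) s

theorem isCommMonObj_bc {A : Over S} [GrpObj A] [IsCommMonObj A] : IsCommMonObj (Red.bc k A) := inferInstance

/-! ### Degrees -/

theorem isPullback_map {A B : Over S} (f : A ⟶ B) : IsPullback (pullback.fst A.hom k)
    ((Over.pullback k).map f).left f.left (pullback.fst B.hom k) := by
  have e : ((Over.pullback k).map f).left ≫ pullback.fst B.hom k = pullback.fst A.hom k ≫ f.left :=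
    pullback.lift_fst _ _ _
  have e2 : ((Over.pullback k).map f).left ≫ pullback.snd B.hom k = pullback.snd A.hom k :=
    Over.w ((Over.pullback k).map f)
  refine IsPullback.of_bot ?_ e.symm (IsPullback.of_hasPullback B.hom k)
  rw [e2, Over.w f]
  exact IsPullback.of_hasPullback A.hom k

theorem hasDegSq_bc {A B : Over S} {f : A ⟶ B} {d : ℕ} (h : AgPol.HasDegSq f d) :
    AgPol.HasDegSq ((Over.pullback k).map f) d := by
  obtain ⟨h1, h2, h3, h4⟩ := h
  have hp := isPullback_map k f
  refine ⟨MorphismProperty.of_isPullback hp h1, MorphismProperty.of_isPullback hp h2,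
    MorphismProperty.of_isPullback hp h3, fun y => ?_⟩
  rw [Scheme.Hom.finrank_of_isPullback _ _ _ _ hp]
  exact h4 _

/-! ### Polarisations -/

section pol

variable {A At : Over S} [GrpObj A] [GrpObj At] [IsProper A.hom] [Flat A.hom]
  [LocallyOfFinitePresentation A.hom] [GeometricallyIntegral A.hom]
  {φ : AgPol.DualMap A At}
  (hD : AbDual.IsDualAV Scheme.fppfPrecoverage A At φ)
  {ξ : Pic (PicF.XT A.hom At)} (h1 : ξ ∈ pz A.hom At) (h2 : ξ ∈ rg A At) (h3 : cm φ ξ = 𝟙 At)

include hD h1 h3 in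
omit [GrpObj A] [IsProper A.hom] [Flat A.hom] [LocallyOfFinitePresentation A.hom] [GeometricallyIntegral A.hom] in
theorem cm_bcXi_eq : cm (At := Red.bc k At) (AgPol.bcDual k A At φ) (bcXi k A At ξ) = 𝟙 _ := by
  rw [cm_bcXi hD h1, h3]
  exact (Over.pullback k).map_id At

include hD h1 h3 in
omit [IsProper A.hom] [Flat A.hom] [LocallyOfFinitePresentation A.hom] [GeometricallyIntegral A.hom] in
/-- The homomorphism attached to a module on the base change, in terms of the Poincaré class. -/
theorem isLambda_of_ev (lam : A ⟶ At) {L : (Red.bc k A).left.Modules} (hL : PicF.IsInvertible L)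
    (h : ∀ (W : Over S') (a b : dn k W ⟶ A), ev a (b ≫ lam) ξ = pull (up (a * b)).left (mk L hL) *
      (pull (up a).left (mk L hL))⁻¹ * (pull (up b).left (mk L hL))⁻¹) :
    AgPol.IsLambda (Red.bc k A) (Red.bc k At) (AgPol.bcDual k A At φ) L ((Over.pullback k).map lam) := by
  rw [K814.MumHom.isLambda_iff _ hL, K814.MumHom.hom]
  have e : mumCl (Red.bc k A) (mk L hL) =
      pull (PicF.XTmap (Red.bc k A).hom ((Over.pullback k).map lam)) (bcXi k A At ξ) := by
    refine ext_ev fun W x y => ?_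
    obtain ⟨a, rfl⟩ := exists_up x
    obtain ⟨b, rfl⟩ := exists_up y
    rw [ev_XTmap, ← up_comp, ev_bcXi, h, K814.MumHom.ev_mum, up_mul]
  rw [e, cm_pull (isDualAV_bc hD) _ (bcXi_mem_pz h1), cm_bcXi_eq k hD h1 h3]
  exact (Category.comp_id _).symm

theorem up_eq_up {A : Over S} {W : Over S'} (a : dn k W ⟶ A) : K814.PrimGeom.up k a = up a := by
  apply hom_ext_bc
  rw [up_left_fst]
  exact K814.PrimGeom.up_left_fst k a

include hD h1 h2 h3 in
/-- **Base change of polarisations.** -/
theorem isPolarization_bc {lam : A ⟶ At} (hpol : AgPol.IsPolarization A At φ lam) :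
    AgPol.IsPolarization (Red.bc k A) (Red.bc k At) (AgPol.bcDual k A At φ) ((Over.pullback k).map lam) := by
  have := hpol.1
  refine ⟨inferInstance, fun Ω _ _ t => ?_⟩
  obtain ⟨L', hL', hlam'⟩ := hpol.2 Ω (t ≫ k)
  let e : (Red.bc t (Red.bc k A)).left ≅ (Red.bc (t ≫ k) A).left := pullbackLeftPullbackSndIso A.hom k t
  have e1 : e.hom ≫ pullback.fst A.hom (t ≫ k) = pullback.fst (Red.bc k A).hom t ≫ pullback.fst A.hom k :=
    pullbackLeftPullbackSndIso_hom_fst _ _ _
  have e2 : e.hom ≫ pullback.snd A.hom (t ≫ k) = pullback.snd (Red.bc k A).hom t :=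
    pullbackLeftPullbackSndIso_hom_snd _ _ _
  have hL : CohB1.IsAmple ((Scheme.Modules.pullback e.hom).obj L') := Models2.AmplePull.isAmple_pullback _ hL'
  refine ⟨_, hL, ?_⟩
  refine isLambda_of_ev (A := Red.bc k A) (At := Red.bc k At) (φ := AgPol.bcDual k A At φ) t (isDualAV_bc hD)
    (bcXi_mem_pz h1) (cm_bcXi_eq k hD h1 h3) _ hL.1 fun W x y => ?_
  obtain ⟨a, rfl⟩ := exists_up x
  obtain ⟨b, rfl⟩ := exists_up y
  let j : dn (t ≫ k) W ⟶ dn k (dn t W) := Over.homMk (𝟙 _) (by
    change 𝟙 _ ≫ (W.hom ≫ t) ≫ k = W.hom ≫ t ≫ k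
    rw [Category.id_comp, Category.assoc])
  have h5 : ∀ a : dn k (dn t W) ⟶ A, (up (up a)).left ≫ e.hom = (up (j ≫ a)).left := by
    intro a
    apply pullback.hom_ext
    · rw [Category.assoc, e1, ← Category.assoc, up_left_fst, up_left_fst, up_left_fst]
      exact (Category.id_comp _).symm
    · rw [Category.assoc, e2, up_left_snd]
      exact (up_left_snd (j ≫ a)).symm
  have h6 : ∀ a : dn k (dn t W) ⟶ A, pull (up (up a)).left (mk _ hL.1) =
      pull (up (j ≫ a)).left (mk L' hL'.1) := by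
    intro a
    rw [← h5, pull_comp, pull_mk e.hom hL'.1]
  rw [← up_comp, ev_bcXi, ← up_mul, h6, h6, h6, MonObj.comp_mul]
  have h7 := K814.Fibre.fibre hD h1 h2 h3 (t ≫ k) lam hL'.1 hlam' (W := W) (j ≫ a) (j ≫ b)
  rw [up_eq_up, up_eq_up, Category.assoc, ← pull_ev] at h7
  refine (pull_id (ev a (b ≫ lam) ξ)).symm.trans (h7.trans ?_)
  rw [K513.Lam.lam, ← up_mul]

end pol

/-! ### Sections and level structures -/

theorem pullSec_eq {X : Over S} (s : 𝟙_ (Over S) ⟶ X) :
    (AgPol.Fam.pullSec (T := Over.mk (𝟙 S)) (T' := Over.mk k) k s : 𝟙_ (Over S') ⟶ Red.bc k X) =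
      up (toUnit (dn k (𝟙_ (Over S'))) ≫ s) := by
  apply hom_ext_bc
  rw [up_left_fst]
  refine (pullback.lift_fst _ _ _).trans ?_
  rw [Over.comp_left]
  congr 1

theorem up_pow {X : Over S} [GrpObj X] {U : Over S'} (a : dn k U ⟶ X) (n : ℕ) : up (a ^ n) = up a ^ n := by
  induction n with
  | zero => rw [pow_zero, pow_zero, up_one]
  | succ n ih => rw [pow_succ, pow_succ, up_mul, ih]

theorem isLevelStr_bc {X : Over S} [GrpObj X] {g n : ℕ} {σ : Fin (2 * g) → (𝟙_ (Over S) ⟶ X)}
    (h : AgPol.IsLevelStr X g n σ) :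
    AgPol.IsLevelStr (Red.bc k X) g n
      (fun i => AgPol.Fam.pullSec (T := Over.mk (𝟙 S)) (T' := Over.mk k) k (σ i)) := by
  obtain ⟨h1, h2⟩ := h
  refine ⟨fun i => ?_, fun Ω _ _ t => ?_⟩
  · change AgPol.Fam.pullSec (T := Over.mk (𝟙 S)) (T' := Over.mk k) k (σ i) ^ n = 1
    rw [pullSec_eq, ← up_pow, ← MonObj.comp_pow, h1, MonObj.comp_one, up_one]
  · obtain ⟨h3, h4⟩ := h2 Ω (t ≫ k)
    let u : (Over.mk (t ≫ k) ⟶ X) →* (Over.mk t ⟶ Red.bc k X) :=
      { toFun := fun a => up (U := Over.mk t) a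
        map_one' := up_one (k := k) (U := Over.mk t) (A := X)
        map_mul' := fun a b => up_mul (k := k) (U := Over.mk t) (A := X) a b }
    have hu : Function.Bijective u := ⟨fun a b hab => up_inj hab, fun x => exists_up x⟩
    have hσ : ∀ i, toUnit (Over.mk t) ≫ AgPol.Fam.pullSec (T := Over.mk (𝟙 S)) (T' := Over.mk k) k (σ i) =
        u (toUnit (Over.mk (t ≫ k)) ≫ σ i) := by
      intro i
      rw [pullSec_eq, comp_up]
      change up _ = up _
      congr 1
    have hcl : Subgroup.closure (Set.range fun i => toUnit (Over.mk t) ≫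
        AgPol.Fam.pullSec (T := Over.mk (𝟙 S)) (T' := Over.mk k) k (σ i)) =
        (Subgroup.closure (Set.range fun i => toUnit (Over.mk (t ≫ k)) ≫ σ i)).map u := by
      rw [MonoidHom.map_closure, ← Set.range_comp]
      congr 2
      funext i
      exact hσ i
    have ht : (AgPol.torsSet (Red.bc k X) n (Over.mk t) : Set (Over.mk t ⟶ Red.bc k X)) =
        u '' AgPol.torsSet X n (Over.mk (t ≫ k)) := by
      ext x
      obtain ⟨a, rfl⟩ := hu.2 x
      constructor
      · intro hx
        refine ⟨a, hu.1 ?_, rfl⟩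
        rw [map_pow, map_one]
        exact hx
      · rintro ⟨b, hb, hba⟩
        rw [← hba]
        change u b ^ n = 1
        rw [← map_pow, hb, map_one]
    refine ⟨?_, ?_⟩
    · rw [hcl, Subgroup.coe_map, h3, ht]
    · rw [ht, Nat.card_image_of_injective hu.1, h4]

end K533.PolBC
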