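import Groth.Agent.S12128
import Groth.Agent.Desc.AmpleDesc
import Groth.Agent.Ega2.RelAmpRows
import Groth.Agent.Models2.AmplePull

/-!
# Relative ampleness on geometric fibres
-/

set_option autoImplicit false
universe u

open CategoryTheory Limits AlgebraicGeometry

namespace K533.GeomAmple

open Groth.Agent

/-- An invertible module on a proper scheme of finite presentation, ample on the geometric fibres, is relatively
ample. -/
theorem isRelAmple_of_geom {X S : Scheme.{u}} (f : X ⟶ S) [IsProper f] [LocallyOfFinitePresentation f]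
    (L : X.Modules) (hL : PicF.IsInvertible L)
    (h : ∀ (Ω : Type u) [Field Ω] [IsAlgClosed Ω] (t : Spec (CommRingCat.of Ω) ⟶ S),
      CohB1.IsAmple ((Scheme.Modules.pullback (pullback.fst f t)).obj L)) : RelAmple.IsRelAmple f L := by
  refine (S12128.result f L hL).2 fun s => ?_
  refine (Ega2.RelAmp.isRelAmple_iff_isAmple (f := f.fiberToSpecResidueField s)).1 ?_
  let Ω := AlgebraicClosure (S.residueField s)
  let g : Spec (CommRingCat.of Ω) ⟶ Spec (S.residueField s) :=
    Spec.map (CommRingCat.ofHom (algebraMap (S.residueField s) Ω))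
  have hs : Surjective g :=
    ⟨fun x => ⟨IsLocalRing.closedPoint Ω, Subsingleton.elim (α := PrimeSpectrum (S.residueField s)) _ _⟩⟩
  have hf : Flat g :=
    Flat.SpecMap_iff.2 (RingHom.flat_algebraMap_iff.2 (inferInstance : Module.Flat (S.residueField s) Ω))
  refine Desc.AmpleDesc.isRelAmple_of_isRelAmple_baseChange _ _ (Fdesc.LocGen.isInvertible_pullback _ hL) g ?_
  refine Ega2.RelAmp.isRelAmple_iff_isAmple.2 ?_
  rw [← Models2.AmplePull.isAmple_pullback_comp]
  have h1 := h Ω (g ≫ S.fromSpecResidueField s)
  have hP : IsPullback (pullback.fst (f.fiberToSpecResidueField s) g ≫ f.fiberι s)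
      (pullback.snd (f.fiberToSpecResidueField s) g) f (g ≫ S.fromSpecResidueField s) :=
    (IsPullback.of_hasPullback (f.fiberToSpecResidueField s) g).paste_horiz
      (IsPullback.of_hasPullback f (S.fromSpecResidueField s))
  have h2 : pullback.fst (f.fiberToSpecResidueField s) g ≫ f.fiberι s =
      hP.isoPullback.hom ≫ pullback.fst f (g ≫ S.fromSpecResidueField s) := hP.isoPullback_hom_fst.symm
  rw [Models2.AmplePull.isAmple_pullback_congr h2, Models2.AmplePull.isAmple_pullback_iff_of_isIso]
  exact h1

end K533.GeomAmple
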