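import Groth.Agent.AgPol.K814.Graph
import Groth.Agent.AgPol.K814.MulEpi
import Groth.Agent.AbDual.K732.Transp

/-!
# Transposes and the Poincaré class; symmetric homomorphisms with the same graph class are equal
-/

set_option autoImplicit false
set_option linter.unusedSectionVars false
universe u

open CategoryTheory Limits MonoidalCategory CartesianMonoidalCategory AlgebraicGeometry
open scoped MonObj

namespace K533.TranspEv

open Groth.Agent Groth.Agent.Grpsch.PicGrp Groth.Agent.Fga.RigGrp K732.PicZero K732.Prim K732.Dual K732.Transp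
open K732.CubeSec

variable {S : Scheme.{u}}

section transp

variable {A B At Bt : Over S} [GrpObj A] [GrpObj B] [GrpObj At] [GrpObj Bt]
  [IsProper A.hom] [Flat A.hom] [LocallyOfFinitePresentation A.hom] [GeometricallyIntegral A.hom]
  {φA : AgPol.DualMap A At} {φB : AgPol.DualMap B Bt}
  (hA : AbDual.IsDualAV Scheme.fppfPrecoverage A At φA)
  {ξA : Pic (PicF.XT A.hom At)} (a1 : ξA ∈ pz A.hom At) (a2 : ξA ∈ rg A At) (a3 : cm φA ξA = 𝟙 At)
  {ξB : Pic (PicF.XT B.hom Bt)} (b1 : ξB ∈ pz B.hom Bt) (b2 : ξB ∈ rg B Bt) (b3 : cm φB ξB = 𝟙 Bt)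

include hA a1 a2 a3 b1 b2 b3

/-- `(1 × f^t)^* P_A = (f × 1)^* P_B`. -/
theorem pull_transpose {f : A ⟶ B} [IsMonHom f] {ft : Bt ⟶ At} (h : AbDual.IsTranspose f φA φB ft) :
    pull (PicF.XTmap A.hom ft) ξA = pull (AbDual.bcMap f Bt) ξB := by
  refine cm_inj hA (bijective_XTproj A.hom) (pull_XTmap_mem _ a1) (pull_bcMap_mem _ b1) (pull_mem _ a2) ?_ ?_
  · rw [mem_rg_iff, ev_bcMap, MonObj.one_comp]
    exact ev_one_of_mem b2 _
  · rw [cm_pull hA _ a1, a3, Category.comp_id, h.cm b1, b3, Category.id_comp]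

theorem ev_transpose {f : A ⟶ B} [IsMonHom f] {ft : Bt ⟶ At} (h : AbDual.IsTranspose f φA φB ft) {W : Over S}
    (a : W ⟶ A) (y : W ⟶ Bt) : ev a (y ≫ ft) ξA = ev (a ≫ f) y ξB := by
  rw [← ev_XTmap, pull_transpose hA a1 a2 a3 b1 b2 b3 h, ev_bcMap]

end transp

section symm

variable {A At : Over S} [GrpObj A] [GrpObj At] [IsCommMonObj A] [Smooth A.hom]
  [IsProper A.hom] [GeometricallyIntegral A.hom] [GeometricallyConnected A.hom]
  {φ : AgPol.DualMap A At}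
  (hD : AbDual.IsDualAV Scheme.fppfPrecoverage A At φ)
  {ξ : Pic (PicF.XT A.hom At)} (h1 : ξ ∈ pz A.hom At) (h2 : ξ ∈ rg A At) (h3 : cm φ ξ = 𝟙 At)

include hD h1 h2 h3

/-- Symmetric homomorphisms are determined by `(1, lam)^* P`. -/
theorem eq_of_symm {lam₁ lam₂ : A ⟶ At} [IsMonHom lam₁] [IsMonHom lam₂]
    (s₁ : ∀ (W : Over S) (a b : W ⟶ A), ev a (b ≫ lam₁) ξ = ev b (a ≫ lam₁) ξ)
    (s₂ : ∀ (W : Over S) (a b : W ⟶ A), ev a (b ≫ lam₂) ξ = ev b (a ≫ lam₂) ξ)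
    (h : ev (𝟙 A) lam₁ ξ = ev (𝟙 A) lam₂ ξ) : lam₁ = lam₂ := by
  have key : ∀ {lam : A ⟶ At} [IsMonHom lam]
      (s : ∀ (W : Over S) (a b : W ⟶ A), ev a (b ≫ lam) ξ = ev b (a ≫ lam) ξ) {W : Over S} (a b : W ⟶ A),
      ev a (b ≫ (lam ^ 2)) ξ = ev (a * b) ((a * b) ≫ lam) ξ * (ev a (a ≫ lam) ξ)⁻¹ *
        (ev b (b ≫ lam) ξ)⁻¹ := by
    intro lam _ s W a b
    have e1 := K814.Graph.gr_mul hD h1 h2 h3 lam a b
    rw [← s W a b] at e1
    rw [e1, MonObj.comp_pow, K814.Graph.ev_pow_right hD h1 h2 h3]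
    refine K814.Fibre.eq_of_mul ?_
    rw [sq]
  have h4 : ∀ {W : Over S} (a : W ⟶ A), ev a (a ≫ lam₁) ξ = ev a (a ≫ lam₂) ξ := by
    intro W a
    rw [← K814.Graph.gr_point, ← K814.Graph.gr_point, h]
  have h5 : pull (PicF.XTmap A.hom (lam₁ ^ 2)) ξ = pull (PicF.XTmap A.hom (lam₂ ^ 2)) ξ := by
    rw [← ev_univ (pull (PicF.XTmap A.hom (lam₁ ^ 2)) ξ),
      ← ev_univ (pull (PicF.XTmap A.hom (lam₂ ^ 2)) ξ), ev_XTmap, ev_XTmap, key s₁, key s₂, h4, h4, h4]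
  have h6 := congrArg (cm φ) h5
  rw [cm_pull hD _ h1, cm_pull hD _ h1, h3, Category.comp_id, Category.comp_id] at h6
  exact K814.MulEpi.eq_of_pow_eq A 2 (by norm_num) h6

end symm

end K533.TranspEv
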