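import Groth.Agent.AgPol.K117.Nodes
import Groth.Agent.AgPol.K533.PolBC
import Groth.Agent.AgPol.K533.TranspEv

/-!
# Admissible families and core families
-/

set_option autoImplicit false
set_option linter.unusedSectionVars false
universe u

open CategoryTheory Limits MonoidalCategory CartesianMonoidalCategory AlgebraicGeometry
open scoped MonObj

namespace K533.FamCore

open Groth.Agent Groth.Agent.Grpsch.PicGrp Groth.Agent.Fga.RigGrp K732.PicZero K732.Prim K732.Dual K732.BC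
open K732.CubeSec K732.Transp K117.Ag

section rig

variable {S : Scheme.{u}} {A At : Over S} [GrpObj A] [GrpObj At]

/-- The class of the core is rigidified. -/
theorem rig {ξ : Pic (PicF.XT A.hom At)} (h2 : ξ ∈ rg A At) (lam : A ⟶ At) [IsMonHom lam] :
    pull (η[A] : 𝟙_ (Over S) ⟶ A).left (ev (𝟙 A) lam ξ) = 1 := by
  rw [pull_ev, Category.comp_id]
  have e : (η[A] : 𝟙_ (Over S) ⟶ A) = 1 := by rw [MonObj.one_eq_one]
  rw [e]
  exact ev_one_of_mem h2 _

end rig

variable {S : Scheme.{u}} {g d n : ℕ}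

/-- The Poincaré class of an admissible family. -/
theorem exists_xi {T : Over S} {x : AgPol.Fam T g} (hx : AgPol.Fam.ok g d n T x) :
    letI := x.grp
    letI := x.grpt
    ∃ ξ : Pic (PicF.XT x.X.hom x.Xt), ξ ∈ pz x.X.hom x.Xt ∧ ξ ∈ rg x.X x.Xt ∧ cm x.φ ξ = 𝟙 x.Xt := by
  let _ := x.grp
  let _ := x.grpt
  obtain ⟨hA, hc, hct, hD, hpol, hdeg, hlev⟩ := hx
  have := hA.smooth
  have := hA.proper
  have := hA.geomConnected
  have hint : GeometricallyIntegral x.X.hom := K814.AbBasic.geometricallyIntegral x.X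
  exact exists_poinc hD (bijective_XTproj x.X.hom)

theorem exists_core (T : Over S) (x : AgPol.Fam T g) (hx : AgPol.Fam.ok g d n T x) :
    ∃ z : Core T g, IsCoreOf x z ∧ Core.ok g d n T z := by
  let _ := x.grp
  let _ := x.grpt
  obtain ⟨ξ, h1, h2, h3⟩ := exists_xi hx
  obtain ⟨hA, hc, hct, hD, hpol, hdeg, hlev⟩ := hx
  refine ⟨⟨x.X, x.grp, ev (𝟙 x.X) x.lam ξ, x.σ⟩, ⟨ξ, h1, h2, h3, rfl⟩, hA, hc, ?_, ?_, hlev⟩
  · have := hpol.1
    exact rig h2 x.lam
  · exact ⟨x.Xt, x.grpt, hct, x.φ, ξ, x.lam, hD, h1, h2, h3, hpol, hdeg, rfl⟩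

theorem exists_fam (T : Over S) (z : Core T g) (hz : Core.ok g d n T z) :
    ∃ x : AgPol.Fam T g, IsCoreOf x z ∧ AgPol.Fam.ok g d n T x := by
  obtain ⟨hA, hc, hr, ⟨At, gAt, cAt, φ, ξ, lam, hD, h1, h2, h3, hpol, hdeg, hcl⟩, hlev⟩ := hz
  refine ⟨⟨z.X, z.grp, At, gAt, φ, lam, z.σ⟩, ⟨ξ, h1, h2, h3, ?_⟩, hA, hc, cAt, hD, hpol, hdeg, hlev⟩
  rw [← hcl]

theorem pull_ok {T T' : Over S} (k : T' ⟶ T) (x : AgPol.Fam T g) (hx : AgPol.Fam.ok g d n T x) :
    AgPol.Fam.ok g d n T' (x.pull k) := by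
  let _ := x.grp
  let _ := x.grpt
  obtain ⟨ξ, h1, h2, h3⟩ := exists_xi hx
  obtain ⟨hA, hc, hct, hD, hpol, hdeg, hlev⟩ := hx
  have := hA.smooth
  have := hA.proper
  have := hA.geomConnected
  have hint : GeometricallyIntegral x.X.hom := K814.AbBasic.geometricallyIntegral x.X
  exact ⟨PolBC.isAbSch_bc k.left hA, PolBC.isCommMonObj_bc k.left, PolBC.isCommMonObj_bc k.left, isDualAV_bc hD,
    PolBC.isPolarization_bc k.left hD h1 h2 h3 hpol, PolBC.hasDegSq_bc k.left hdeg, PolBC.isLevelStr_bc k.left hlev⟩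

theorem pull_core {T T' : Over S} (k : T' ⟶ T) (x : AgPol.Fam T g) (z : Core T g) (hx : AgPol.Fam.ok g d n T x)
    (hz : IsCoreOf x z) : IsCoreOf (x.pull k) (z.pull k) := by
  let _ := x.grp
  let _ := x.grpt
  obtain ⟨ξ, h1, h2, h3, rfl⟩ := hz
  obtain ⟨hA, hc, hct, hD, hpol, hdeg, hlev⟩ := hx
  refine ⟨bcXi k.left x.X x.Xt ξ, bcXi_mem_pz h1, bcXi_mem_rg h2, PolBC.cm_bcXi_eq k.left hD h1 h3, ?_⟩
  have e : pull (pullback.fst x.X.hom k.left) (ev (𝟙 x.X) x.lam ξ) =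
      ev (𝟙 (Red.bc k.left x.X)) ((Over.pullback k.left).map x.lam) (bcXi k.left x.X x.Xt ξ) := by
    have e1 := ev_bcXi (k := k.left) (prj k.left x.X) (prj k.left x.X ≫ x.lam) ξ
    rw [up_comp, up_prj, Category.id_comp] at e1
    rw [e1]
    exact K814.Graph.gr_point x.lam ξ (prj k.left x.X)
  change (⟨_, _, _, _⟩ : Core T' g) = ⟨_, _, _, _⟩
  congr 1

theorem core_refl (T : Over S) (z : Core T g) : Core.r T z z := by
  refine ⟨Iso.refl _, inferInstanceAs (IsMonHom (𝟙 z.X)), ?_, fun i => Category.comp_id _⟩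
  exact (congrArg (fun f => pull f z.c) (Over.id_left z.X)).trans (pull_id _)

theorem r_iff (T : Over S) (x y : AgPol.Fam T g) (z w : Core T g) (hx : AgPol.Fam.ok g d n T x)
    (hy : AgPol.Fam.ok g d n T y) (hz : IsCoreOf x z) (hw : IsCoreOf y w) :
    AgPol.Fam.r T x y ↔ Core.r T z w := by
  let _ := x.grp
  let _ := x.grpt
  let _ := y.grp
  let _ := y.grpt
  obtain ⟨ξx, a1, a2, a3, rfl⟩ := hz
  obtain ⟨ξy, b1, b2, b3, rfl⟩ := hw
  obtain ⟨hA, hc, hct, hD, hpol, hdeg, hlev⟩ := hx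
  obtain ⟨hA', hc', hct', hD', hpol', hdeg', hlev'⟩ := hy
  have := hA.smooth
  have := hA.proper
  have := hA.geomConnected
  have hint : GeometricallyIntegral x.X.hom := K814.AbBasic.geometricallyIntegral x.X
  have := hA'.smooth
  have := hA'.proper
  have := hA'.geomConnected
  have hint' : GeometricallyIntegral y.X.hom := K814.AbBasic.geometricallyIntegral y.X
  have hF := bijective_XTproj x.X.hom
  have hF' := bijective_XTproj y.X.hom
  have key : ∀ (e : x.X ≅ y.X) (_ : IsMonHom e.hom) (et : y.Xt ⟶ x.Xt),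
      AbDual.IsTranspose e.hom x.φ y.φ et →
      ev (𝟙 x.X) (e.hom ≫ y.lam ≫ et) ξx = pull e.hom.left (ev (𝟙 y.X) y.lam ξy) := by
    intro e he et ht
    rw [← Category.assoc, TranspEv.ev_transpose hD a1 a2 a3 b1 b2 b3 ht, Category.id_comp, K814.Graph.gr_point]
  constructor
  · rintro ⟨e, he, et, het, hiso, ht, hlam, hσ⟩
    refine ⟨e, he, ?_, hσ⟩
    change pull e.hom.left (ev (𝟙 y.X) y.lam ξy) = ev (𝟙 x.X) x.lam ξx
    rw [← key e he et ht, ← hlam]
  · rintro ⟨e, he, hcl, hσ⟩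
    have hcl' : pull e.hom.left (ev (𝟙 y.X) y.lam ξy) = ev (𝟙 x.X) x.lam ξx := hcl
    obtain ⟨et, ht⟩ := exists_isTranspose hD hD' hF' e.hom
    obtain ⟨es, hs⟩ := exists_isTranspose hD' hD hF e.inv
    have het : IsMonHom et := isMonHom_of_isTranspose hD hD' hF' ht
    have i1 : et ≫ es = 𝟙 _ := by
      have h1 := isTranspose_comp hs ht
      rw [Iso.inv_hom_id] at h1
      exact isTranspose_unique hD' hF' h1 isTranspose_id
    have i2 : es ≫ et = 𝟙 _ := by
      have h1 := isTranspose_comp ht hs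
      rw [Iso.hom_inv_id] at h1
      exact isTranspose_unique hD hF h1 isTranspose_id
    refine ⟨e, he, et, het, ⟨es, i1, i2⟩, ht, ?_, hσ⟩
    have m1 := hpol.1
    have m2 := hpol'.1
    have m3 : IsMonHom (e.hom ≫ y.lam ≫ et) := inferInstance
    refine TranspEv.eq_of_symm hD a1 a2 a3 (fun W a b => (K814.Fibre.symm hD a1 a2 a3 hpol a b).symm) (fun W a b => ?_) ?_
    · have e1 : ∀ a b : W ⟶ x.X, ev a (b ≫ e.hom ≫ y.lam ≫ et) ξx = ev (a ≫ e.hom) ((b ≫ e.hom) ≫ y.lam) ξy := by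
        intro a b
        rw [← TranspEv.ev_transpose hD a1 a2 a3 b1 b2 b3 ht]
        simp only [Category.assoc]
      rw [e1, e1]
      exact (K814.Fibre.symm hD' b1 b2 b3 hpol' _ _).symm
    · rw [key e he et ht, hcl']

/-- **FAMCORE** -/
theorem main (g d n : ℕ) : Node.FamCore.{u} g d n where
  exists_core T x _ hx := exists_core T x hx
  exists_fam T z _ hz := exists_fam T z hz
  r_iff T x y z w _ hx hy hz hw := r_iff T x y z w hx hy hz hw
  pull k x z _ _ hx hz := ⟨z.pull k, pull_core k x z hx hz, core_refl _ _⟩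
  pull_ok k x _ _ hx := pull_ok k x hx

end K533.FamCore
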