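import Groth.Agent.AgPol.K117.Nodes
import Groth.Agent.AgPol.K533.GeomAmple
import Groth.Agent.AbVar.K521.Lam

/-!
# The class of a polarisation is relatively ample
-/

set_option autoImplicit false
universe u

open CategoryTheory Limits MonoidalCategory CartesianMonoidalCategory AlgebraicGeometry
open scoped MonObj

namespace K533.Amp

open Groth.Agent Groth.Agent.Grpsch.PicGrp Groth.Agent.Grpsch.Cube Groth.Agent.Fga.RigGrp K732.PicZero K732.Prim K732.Dual
open K117.Ag K814.PrimGeom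

section field

variable {K : Type u} [Field K] {A : Over (Spec (CommRingCat.of K))} [GrpObj A] [IsProper A.hom]
  [GeometricallyIntegral A.hom]

/-- `L(a²) L(a)⁻² = L(a) L(a⁻¹)`. -/
theorem lam_self {T : Over (Spec (CommRingCat.of K))} (c : Pic A.left) (a : T ⟶ A) :
    K521.Lam.lam c a a = pl a c * pl a⁻¹ c := by
  have h1 := K521.Lam.lam_inv_right c a a
  have h2 : K521.Lam.lam c a a⁻¹ = (pl a c)⁻¹ * (pl a⁻¹ c)⁻¹ := by
    rw [K521.Lam.lam, mul_inv_cancel, pl_one, _root_.one_mul]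
  rw [h2, ← _root_.mul_inv] at h1
  exact (inv_injective h1).symm

theorem isAmple_tensor {X : Scheme.{u}} {L M : X.Modules} (hL : CohB1.IsAmple L) (hM : CohB1.IsAmple M) :
    CohB1.IsAmple (CohB1.tensorMod L M) :=
  Ega2.Weight.isAmple_tensorMod hL hM.1 fun x => by
    obtain ⟨m, s, hs, -⟩ := hM.2.2 x
    exact ⟨m, s, hs⟩

/-- A module whose class is `M ⊗ [-1]^* M`, `M` ample, is ample. -/
theorem isAmple_of_cls {L M : A.left.Modules} (hL : PicF.IsInvertible L) (hM : CohB1.IsAmple M)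
    (h : mk L hL = K521.Lam.lam (mk M hM.1) (𝟙 A) (𝟙 A)) : CohB1.IsAmple L := by
  rw [lam_self, pl, pl, Over.id_left] at h
  have hi : IsIso (((𝟙 A)⁻¹ : A ⟶ A)).left := by
    have h1 : ((𝟙 A)⁻¹ : A ⟶ A) ≫ (𝟙 A)⁻¹ = 𝟙 A := by
      rw [GrpObj.comp_inv, Category.comp_id, inv_inv]
    have h2 : (((𝟙 A)⁻¹ : A ⟶ A)).left ≫ (((𝟙 A)⁻¹ : A ⟶ A)).left = 𝟙 A.left := congrArg CommaMorphism.left h1
    exact ⟨⟨_, h2, h2⟩⟩
  have h3 : CohB1.IsAmple ((Scheme.Modules.pullback (((𝟙 A)⁻¹ : A ⟶ A)).left).obj M) :=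
    Models2.AmplePull.isAmple_pullback _ hM
  have h4 := isAmple_tensor hM h3
  have h5 : (mk L hL : Pic A.left) = mk (CohB1.tensorMod M ((Scheme.Modules.pullback (((𝟙 A)⁻¹ : A ⟶ A)).left).obj M))
      (Fdesc.LocGen.isInvertible_tensorMod hM.1 h3.1) := by
    rw [h, ← mk_mul_mk hM.1 h3.1, ← pull_mk _ hM.1]
    congr 1
    exact pull_id _
  obtain ⟨e⟩ := (mk_eq_iff _ _).1 h5
  exact Models2.AmplePull.isAmple_of_iso e.symm h4

end field

variable {S : Scheme.{u}} {A At : Over S} [GrpObj A] [GrpObj At] [IsProper A.hom] [Flat A.hom]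
  [LocallyOfFinitePresentation A.hom] [GeometricallyIntegral A.hom]
  {φ : AgPol.DualMap A At}
  (hD : AbDual.IsDualAV Scheme.fppfPrecoverage A At φ)
  {ξ : Pic (PicF.XT A.hom At)} (h1 : ξ ∈ pz A.hom At) (h2 : ξ ∈ rg A At) (h3 : cm φ ξ = 𝟙 At)

include hD h1 h2 h3 in
/-- The class `(1, lam)^* P` on a geometric fibre. -/
theorem cls_fibre {Ω : Type u} [Field Ω] (τ : Spec (CommRingCat.of Ω) ⟶ S) (lam : A ⟶ At)
    {L : (Red.bc τ A).left.Modules} (hL : PicF.IsInvertible L)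
    (hlam : AgPol.IsLambda (Red.bc τ A) (Red.bc τ At) (AgPol.bcDual τ A At φ) L ((Over.pullback τ).map lam)) :
    pull (pullback.fst A.hom τ) (ev (𝟙 A) lam ξ) = K521.Lam.lam (mk L hL) (𝟙 (Red.bc τ A)) (𝟙 (Red.bc τ A)) := by
  have e := K814.Fibre.fibre hD h1 h2 h3 τ lam hL hlam (dn τ (𝟙 (Red.bc τ A))) (dn τ (𝟙 (Red.bc τ A)))
  rw [up_dn, ← K814.Graph.gr_point, dn_left] at e
  refine Eq.trans ?_ e
  congr 1

/-- **AMP** -/
theorem main : Node.Amp.{u} := by
  intro S _ A _ _ g d hA L hL hP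
  obtain ⟨At, _, _, φ, ξ, lam, hD, h1, h2, h3, hpol, hdeg, hc⟩ := hP
  have := hA.smooth
  have := hA.proper
  have := hA.geomConnected
  have hint : GeometricallyIntegral A.hom := K814.AbBasic.geometricallyIntegral A
  refine GeomAmple.isRelAmple_of_geom A.hom L hL fun Ω _ _ t => ?_
  obtain ⟨M, hM, hlam⟩ := hpol.2 Ω t
  have i1 : IsProper (Red.bc t A).hom := inferInstanceAs (IsProper (pullback.snd A.hom t))
  have i2 : GeometricallyIntegral (Red.bc t A).hom := inferInstanceAs (GeometricallyIntegral (pullback.snd A.hom t))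
  refine isAmple_of_cls (A := Red.bc t A) (Fdesc.LocGen.isInvertible_pullback (pullback.fst A.hom t) hL) hM ?_
  rw [← cls_fibre hD h1 h2 h3 t lam hM.1 hlam, ← hc, pull_mk]

end K533.Amp
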