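import Groth.Agent.AgPol.K533.PolBC
import Groth.Agent.AgPol.K814.MulEpi

/-!
# Gluing homomorphisms of abelian schemes over an open cover of the base

* `cov` : the covering of an `S`-scheme by its restrictions to the members of an open cover of `S`;
* `exists_glue` : if the square root `lam i` of a morphism `m` exists on the members of an open cover, it exists.
* `cls_ext` : rigidified classes are determined locally on the base.
-/

set_option autoImplicit false
universe u

open CategoryTheory Limits MonoidalCategory CartesianMonoidalCategory AlgebraicGeometry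
open scoped MonObj

namespace K533.LocGlue

open Groth.Agent Groth.Agent.Grpsch.PicGrp Groth.Agent.Fga.RigGrp K732.PicZero K732.Prim K732.Dual K732.BC K732.Cov

variable {S : Scheme.{u}} {κ : Type u} (U : κ → S.Opens) (hU : (⨆ i, U i) = ⊤)

/-- The covering of an `S`-scheme attached to an open cover of `S`. -/
noncomputable def cov (W : Over S) : FCov W :=
  ⟨κ, fun i => dn (U i).ι (Red.bc (U i).ι W), fun i => prj (U i).ι W,
    fun i => inferInstanceAs (Flat (pullback.fst W.hom (U i).ι)),
    fun i => inferInstanceAs (LocallyOfFinitePresentation (pullback.fst W.hom (U i).ι)), fun t => by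
      have h : W.hom t ∈ (⨆ i, U i) := by rw [hU]; trivial
      obtain ⟨i, hi⟩ := TopologicalSpace.Opens.mem_iSup.1 h
      obtain ⟨z, hz, -⟩ := Scheme.Pullback.exists_preimage_pullback (f := W.hom) (g := (U i).ι) t ⟨W.hom t, hi⟩ rfl
      exact ⟨i, z, hz⟩⟩

include hU in
theorem hom_ext {W N : Over S} {a b : W ⟶ N}
    (h : ∀ i (W' : Over (U i : Scheme.{u})) (j : dn (U i).ι W' ⟶ W), j ≫ a = j ≫ b) : a = b :=
  (cov U hU W).hom_ext fun i => h i _ _

theorem map_eq {i : κ} {A B : Over S} {m : A ⟶ B} {f : Red.bc (U i).ι A ⟶ Red.bc (U i).ι B}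
    (h : ∀ (W : Over (U i : Scheme.{u})) (a : dn (U i).ι W ⟶ A), up (a ≫ m) = up a ≫ f) :
    (Over.pullback (U i).ι).map m = f := by
  have h1 := h _ (prj (U i).ι A)
  rw [up_comp, up_prj] at h1
  exact (Category.id_comp _).symm.trans (h1.trans (Category.id_comp _))

section glue

variable {A At : Over S} [GrpObj A] [GrpObj At] [IsCommMonObj A] [IsProper A.hom] [Flat A.hom]
  [LocallyOfFinitePresentation A.hom] [GeometricallyIntegral A.hom]

include hU in
/-- Gluing of the square roots of a morphism. -/
theorem exists_glue (m : A ⟶ At) (lam : ∀ i, Red.bc (U i).ι A ⟶ Red.bc (U i).ι At) (hlam : ∀ i, IsMonHom (lam i))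
    (h : ∀ i, (Over.pullback (U i).ι).map m = lam i * lam i) :
    ∃ l : A ⟶ At, IsMonHom l ∧ ∀ i, (Over.pullback (U i).ι).map l = lam i := by
  let p : A ⟶ A := 𝟙 A ^ 2
  have i1 : Surjective p.left := K814.MulEpi.surjective_pow A 2 (by norm_num)
  have i2 : Flat p.left := K814.MulEpi.flat_pow A 2 (by norm_num)
  have i3 : IsProper p.left := K814.AbBasic.isProper_left A p
  have key : ∀ (i : κ) (W : Over (U i : Scheme.{u})) (a : dn (U i).ι W ⟶ A), up (a ≫ m) = up (a ≫ p) ≫ lam i := by
    intro i W a
    have := hlam i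
    rw [up_comp, h, MonObj.comp_mul, ← MonObj.mul_comp, ← up_mul, MonObj.comp_pow, Category.comp_id, pow_two]
  have hcomp : ∀ {Z : Over S} (a b : Z ⟶ A), a ≫ p = b ≫ p → a ≫ m = b ≫ m := by
    intro Z a b hab
    refine hom_ext U hU fun i W j => up_inj ?_
    rw [← Category.assoc, ← Category.assoc, key, key, Category.assoc, Category.assoc, hab]
  have hc : ∀ {Z : Scheme.{u}} (g₁ g₂ : Z ⟶ A.left), g₁ ≫ p.left = g₂ ≫ p.left → g₁ ≫ m.left = g₂ ≫ m.left := by
    intro Z g₁ g₂ hg
    have hg' : g₂ ≫ A.hom = g₁ ≫ A.hom := by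
      rw [← Over.w p, ← Category.assoc, ← hg, Category.assoc]
    have h1 := hcomp (Z := Over.mk (g₁ ≫ A.hom)) (Over.homMk g₁ rfl) (Over.homMk g₂ hg') (by
      ext1
      exact hg)
    exact congrArg CommaMorphism.left h1
  let l0 : A.left ⟶ At.left := EffectiveEpi.desc p.left m.left hc
  have hl0 : p.left ≫ l0 = m.left := EffectiveEpi.fac p.left m.left hc
  let l : A ⟶ At := Over.homMk l0 (by
    have : Epi p.left := inferInstance
    rw [← cancel_epi p.left, ← Category.assoc, hl0, Over.w]
    exact (Over.w p).symm)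
  have hl : p ≫ l = m := by
    ext1
    exact hl0
  have key2 : ∀ (i : κ), (Over.pullback (U i).ι).map l = lam i := by
    intro i
    have j1 : Flat ((Over.pullback (U i).ι).map p).left := MorphismProperty.of_isPullback (PolBC.isPullback_map (U i).ι p) i2
    have j2 : Surjective ((Over.pullback (U i).ι).map p).left :=
      MorphismProperty.of_isPullback (PolBC.isPullback_map (U i).ι p) i1
    have j3 : QuasiCompact ((Over.pullback (U i).ι).map p).left :=
      MorphismProperty.of_isPullback (P := @QuasiCompact) (PolBC.isPullback_map (U i).ι p) inferInstance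
    have j4 : Epi ((Over.pullback (U i).ι).map p).left := inferInstance
    have j5 : Epi ((Over.pullback (U i).ι).map p) := (Over.forget _).epi_of_epi_map j4
    rw [← cancel_epi ((Over.pullback (U i).ι).map p), ← Functor.map_comp, hl]
    have h1 := key i _ (prj (U i).ι A)
    rw [up_comp, up_comp, up_prj] at h1
    exact (Category.id_comp _).symm.trans (h1.trans (congrArg (· ≫ lam i) (Category.id_comp _)))
  refine ⟨l, K732.Bidual.isMonHom_of_mul _ fun W a b => ?_, key2⟩
  refine hom_ext U hU fun i W' j => up_inj ?_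
  have := hlam i
  rw [← Category.assoc, up_comp, key2, MonObj.comp_mul, MonObj.comp_mul, up_mul, up_mul, MonObj.mul_comp,
    ← Category.assoc, ← Category.assoc, up_comp (j ≫ a), up_comp (j ≫ b), key2]

end glue

section cls

variable {A : Over S} [GrpObj A] [IsProper A.hom] [Flat A.hom] [LocallyOfFinitePresentation A.hom]
  [GeometricallyIntegral A.hom]

omit [GrpObj A] [IsProper A.hom] [Flat A.hom] [LocallyOfFinitePresentation A.hom] [GeometricallyIntegral A.hom] in
theorem aux {i : κ} {c c' : Pic A.left} (V : Over (U i : Scheme.{u})) {W : Over S} (g : W ⟶ dn (U i).ι V) (a : W ⟶ A)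
    (h : pull (pullback.fst A.hom (U i).ι) c = pull (pullback.fst A.hom (U i).ι) c') :
    pull a.left c = pull a.left c' := by
  have hW : g.left ≫ V.hom ≫ (U i).ι = W.hom := Over.w g
  have e1 : a.left = (pullback.lift a.left (g.left ≫ V.hom) (by
      rw [Over.w, ← hW, Category.assoc])) ≫ pullback.fst A.hom (U i).ι := (pullback.lift_fst _ _ _).symm
  rw [e1, pull_comp, pull_comp, h]

include hU in
/-- **Rigidified classes are determined locally on the base.** -/
theorem cls_ext {c c' : Pic A.left} (hc : pull (η[A] : 𝟙_ (Over S) ⟶ A).left c = 1)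
    (hc' : pull (η[A] : 𝟙_ (Over S) ⟶ A).left c' = 1)
    (h : ∀ i, pull (pullback.fst A.hom (U i).ι) c = pull (pullback.fst A.hom (U i).ι) c') : c = c' := by
  let p : PicF.XT A.hom (𝟙_ (Over S)) ⟶ A.left := (fst A (𝟙_ (Over S))).left
  have hev : ∀ {W : Over S} (a : W ⟶ A) (t : W ⟶ 𝟙_ (Over S)) (c : Pic A.left), ev a t (pull p c) = pull a.left c := by
    intro W a t c
    rw [ev_def, ← pull_comp]
    exact congrArg (fun t => pull t c) (congrArg CommaMorphism.left (lift_fst a t))
  have hmem : ∀ {c : Pic A.left}, pull (η[A] : 𝟙_ (Over S) ⟶ A).left c = 1 → pull p c ∈ rg A (𝟙_ (Over S)) := by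
    intro c hc
    rw [mem_rg_iff, hev]
    have e : (η[A] : 𝟙_ (Over S) ⟶ A) = 1 := by rw [MonObj.one_eq_one]
    rw [← e, hc]
  have h1 : pull p c = pull p c' := by
    refine K732.RigSheaf.rg_ext (Over.w η[A]) (K732.CubeSec.bijective_XTproj A.hom) (cov U hU (𝟙_ (Over S))) (hmem hc) (hmem hc')
      fun i => ext_ev fun W a g => ?_
    rw [ev_XTmap, ev_XTmap, hev, hev]
    exact aux U (i := i) (Red.bc (U i).ι (𝟙_ (Over S))) g a (h i)
  have h2 := hev (𝟙 A) (toUnit A) c
  have h3 := hev (𝟙 A) (toUnit A) c'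
  rw [Over.id_left] at h2 h3
  rw [← pull_id c, ← pull_id c', ← h2, ← h3, h1]

end cls

end K533.LocGlue
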