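import Groth.Agent.AgPol.K533.FamCore

/-!
# Base change of polarisation classes
-/

set_option autoImplicit false
universe u

open CategoryTheory Limits MonoidalCategory CartesianMonoidalCategory AlgebraicGeometry
open scoped MonObj

namespace K533.PolClBC

open Groth.Agent Groth.Agent.Grpsch.PicGrp Groth.Agent.Fga.RigGrp K732.PicZero K732.Prim K732.Dual K732.BC
open K117.Ag

variable {S S' : Scheme.{u}} (k : S' ⟶ S)

/-- The class `(1, lam)^* P` commutes with base change. -/
theorem pull_ev_bc {A At : Over S} [GrpObj A] [GrpObj At] (lam : A ⟶ At) (ξ : Pic (PicF.XT A.hom At)) :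
    pull (pullback.fst A.hom k) (ev (𝟙 A) lam ξ) =
      ev (𝟙 (Red.bc k A)) ((Over.pullback k).map lam) (bcXi k A At ξ) := by
  have e1 := ev_bcXi (k := k) (prj k A) (prj k A ≫ lam) ξ
  rw [up_comp, up_prj, Category.id_comp] at e1
  rw [e1]
  exact K814.Graph.gr_point lam ξ (prj k A)

/-- **Base change of polarisation classes.** -/
theorem isPolCl_bc {A : Over S} [GrpObj A] {g d : ℕ} (hA : AgPol.IsAbSch A g) {c : Pic A.left} (h : IsPolCl A d c) :
    IsPolCl (Red.bc k A) d (pull (pullback.fst A.hom k) c) := by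
  obtain ⟨At, gAt, cAt, φ, ξ, lam, hD, h1, h2, h3, hpol, hdeg, rfl⟩ := h
  have := hA.smooth
  have := hA.proper
  have := hA.geomConnected
  have hint : GeometricallyIntegral A.hom := K814.AbBasic.geometricallyIntegral A
  exact ⟨Red.bc k At, inferInstance, PolBC.isCommMonObj_bc k, AgPol.bcDual k A At φ, bcXi k A At ξ,
    (Over.pullback k).map lam, isDualAV_bc hD, bcXi_mem_pz h1, bcXi_mem_rg h2, PolBC.cm_bcXi_eq k hD h1 h3,
    PolBC.isPolarization_bc k hD h1 h2 h3 hpol, PolBC.hasDegSq_bc k hdeg, pull_ev_bc k lam ξ⟩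

end K533.PolClBC
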