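import Groth.Agent.AgPol.K540.LawNodes
import Groth.Agent.AgPol.K814.DualNode
import Groth.Agent.AgPol.K533.Amp
import Groth.Agent.AgPol.K533.PolClBC
import Groth.Agent.AgPol.K533.LocGlue
import Groth.Agent.AgPol.K513.PolUniq

/-!
# Being a rigidified polarisation class is local on the base
-/

set_option autoImplicit false
universe u

open CategoryTheory Limits MonoidalCategory CartesianMonoidalCategory AlgebraicGeometry
open scoped MonObj

namespace K533.PolLocal

open Groth.Agent Groth.Agent.Grpsch.PicGrp Groth.Agent.Fga.RigGrp K732.PicZero K732.Prim K732.Dual K732.BC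
open K117.Ag

variable {S : Scheme.{u}} {κ : Type u} (U : κ → S.Opens) (hU : (⨆ i, U i) = ⊤)

section degree

include hU

theorem prop_of_local (P : MorphismProperty Scheme.{u}) [IsZariskiLocalAtTarget P] {A B : Over S} (f : A ⟶ B)
    (h : ∀ i, P ((Over.pullback (U i).ι).map f).left) : P f.left := by
  refine IsZariskiLocalAtTarget.of_openCover ((Scheme.openCoverOfIsOpenCover S U hU).pullback₁ B.hom) fun i => ?_
  have hp := PolBC.isPullback_map (U i).ι f
  change P (pullback.snd f.left (pullback.fst B.hom (U i).ι))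
  rw [← hp.isoPullback_inv_snd]
  exact (P.cancel_left_of_respectsIso _ _).2 (h i)

theorem exists_fst (B : Over S) (y : B.left) : ∃ (i : κ) (z : (Red.bc (U i).ι B).left), pullback.fst B.hom (U i).ι z = y := by
  obtain ⟨i, z, hz⟩ := (LocGlue.cov U hU B).covers y
  exact ⟨i, z, hz⟩

set_option backward.isDefEq.respectTransparency false in
instance : IsZariskiLocalAtTarget (@IsFinite : MorphismProperty Scheme.{u}) := inferInstance

theorem hasDegSq_of_local {A B : Over S} {f : A ⟶ B} {d : ℕ}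
    (h : ∀ i, AgPol.HasDegSq ((Over.pullback (U i).ι).map f) d) : AgPol.HasDegSq f d := by
  have z1 : IsZariskiLocalAtTarget (@Flat : MorphismProperty Scheme.{u}) :=
    HasRingHomProperty.instIsZariskiLocalAtTarget _
  have z2 : IsZariskiLocalAtTarget (@LocallyOfFinitePresentation : MorphismProperty Scheme.{u}) :=
    HasRingHomProperty.instIsZariskiLocalAtTarget _
  have h1 : IsFinite f.left := prop_of_local U hU @IsFinite f fun i => (h i).1
  have h2 : Flat f.left := prop_of_local U hU @Flat f fun i => (h i).2.1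
  have h3 : LocallyOfFinitePresentation f.left := prop_of_local U hU @LocallyOfFinitePresentation f fun i => (h i).2.2.1
  refine ⟨h1, h2, h3, fun y => ?_⟩
  obtain ⟨i, z, rfl⟩ := exists_fst U hU B y
  rw [← Scheme.Hom.finrank_of_isPullback _ _ _ _ (PolBC.isPullback_map (U i).ι f)]
  exact (h i).2.2.2 z

theorem exists_factor {Ω : Type u} [Field Ω] (t : Spec (CommRingCat.of Ω) ⟶ S) :
    ∃ (i : κ) (t' : Spec (CommRingCat.of Ω) ⟶ U i), t' ≫ (U i).ι = t := by
  let s := t (IsLocalRing.closedPoint Ω)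
  have h : s ∈ (⨆ i, U i) := by rw [hU]; trivial
  obtain ⟨i, hi⟩ := TopologicalSpace.Opens.mem_iSup.1 h
  refine ⟨i, IsOpenImmersion.lift (U i).ι t ?_, IsOpenImmersion.lift_fac _ _ _⟩
  rintro _ ⟨x, rfl⟩
  rw [Scheme.Opens.range_ι]
  have hx : x = IsLocalRing.closedPoint Ω := Subsingleton.elim (α := PrimeSpectrum Ω) _ _
  rw [hx]
  exact hi

end degree

section pol

variable {A At : Over S} [GrpObj A] [GrpObj At] [IsProper A.hom] [Flat A.hom]
  [LocallyOfFinitePresentation A.hom] [GeometricallyIntegral A.hom]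
  {φ : AgPol.DualMap A At}
  (hD : AbDual.IsDualAV Scheme.fppfPrecoverage A At φ)
  {ξ : Pic (PicF.XT A.hom At)} (h1 : ξ ∈ pz A.hom At) (h2 : ξ ∈ rg A At) (h3 : cm φ ξ = 𝟙 At)

include hD h1 h2 h3 in
/-- The clause of a polarisation at a geometric point of the base change. -/
theorem lambda_comp {S' : Scheme.{u}} (k : S' ⟶ S) (lam : A ⟶ At) {Ω : Type u} [Field Ω]
    (t : Spec (CommRingCat.of Ω) ⟶ S')
    (h : ∃ L : (Red.bc t (Red.bc k A)).left.Modules, CohB1.IsAmple L ∧
      AgPol.IsLambda (Red.bc t (Red.bc k A)) (Red.bc t (Red.bc k At)) (AgPol.bcDual t (Red.bc k A) (Red.bc k At)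
        (AgPol.bcDual k A At φ)) L ((Over.pullback t).map ((Over.pullback k).map lam))) :
    ∃ L : (Red.bc (t ≫ k) A).left.Modules, CohB1.IsAmple L ∧
      AgPol.IsLambda (Red.bc (t ≫ k) A) (Red.bc (t ≫ k) At) (AgPol.bcDual (t ≫ k) A At φ) L
        ((Over.pullback (t ≫ k)).map lam) := by
  obtain ⟨L', hL', hlam'⟩ := h
  let e : (Red.bc t (Red.bc k A)).left ≅ (Red.bc (t ≫ k) A).left := pullbackLeftPullbackSndIso A.hom k t
  have e1 : e.hom ≫ pullback.fst A.hom (t ≫ k) = pullback.fst (Red.bc k A).hom t ≫ pullback.fst A.hom k :=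
    pullbackLeftPullbackSndIso_hom_fst _ _ _
  have e2 : e.hom ≫ pullback.snd A.hom (t ≫ k) = pullback.snd (Red.bc k A).hom t :=
    pullbackLeftPullbackSndIso_hom_snd _ _ _
  have hL : CohB1.IsAmple ((Scheme.Modules.pullback e.inv).obj L') := Models2.AmplePull.isAmple_pullback _ hL'
  have i1 : IsProper (Red.bc k A).hom := inferInstanceAs (IsProper (pullback.snd A.hom k))
  have i2 : GeometricallyIntegral (Red.bc k A).hom := inferInstanceAs (GeometricallyIntegral (pullback.snd A.hom k))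
  have i3 : Flat (Red.bc k A).hom := inferInstanceAs (Flat (pullback.snd A.hom k))
  have i4 : LocallyOfFinitePresentation (Red.bc k A).hom :=
    inferInstanceAs (LocallyOfFinitePresentation (pullback.snd A.hom k))
  refine ⟨_, hL, ?_⟩
  refine PolBC.isLambda_of_ev (t ≫ k) hD h1 h3 lam hL.1 fun W a b => ?_
  let j : dn k (dn t W) ⟶ dn (t ≫ k) W := Over.homMk (𝟙 _) (by
    change 𝟙 _ ≫ W.hom ≫ t ≫ k = (W.hom ≫ t) ≫ k
    rw [Category.id_comp, Category.assoc])
  have h5 : ∀ a : dn (t ≫ k) W ⟶ A, (up a).left ≫ e.inv = (up (up (j ≫ a))).left := by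
    intro a
    rw [Iso.comp_inv_eq]
    apply pullback.hom_ext
    · rw [Category.assoc, e1, ← Category.assoc, up_left_fst, up_left_fst, up_left_fst]
      exact (Category.id_comp _).symm
    · rw [Category.assoc, e2, up_left_snd]
      exact (up_left_snd (up (j ≫ a))).symm
  have h6 : ∀ a : dn (t ≫ k) W ⟶ A, pull (up a).left (mk _ hL.1) = pull (up (up (j ≫ a))).left (mk L' hL'.1) := by
    intro a
    rw [← h5, pull_comp, pull_mk e.inv hL'.1]
  rw [h6, h6, h6, MonObj.comp_mul, up_mul, up_mul]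
  have h7 := K814.Fibre.fibre (isDualAV_bc hD) (bcXi_mem_pz h1) (bcXi_mem_rg h2) (PolBC.cm_bcXi_eq k hD h1 h3) t
    ((Over.pullback k).map lam) hL'.1 hlam' (W := W) (up (j ≫ a)) (up (j ≫ b))
  rw [PolBC.up_eq_up, PolBC.up_eq_up, ← up_comp, ev_bcXi, Category.assoc, ← pull_ev] at h7
  refine (pull_id (ev a (b ≫ lam) ξ)).symm.trans (h7.trans ?_)
  rw [K513.Lam.lam]

include hU hD h1 h2 h3 in
theorem isPolarization_of_local {lam : A ⟶ At} (hm : IsMonHom lam) (h : ∀ i, AgPol.IsPolarization (Red.bc (U i).ι A)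
    (Red.bc (U i).ι At) (AgPol.bcDual (U i).ι A At φ) ((Over.pullback (U i).ι).map lam)) :
    AgPol.IsPolarization A At φ lam := by
  refine ⟨hm, fun Ω _ _ t => ?_⟩
  obtain ⟨i, t, rfl⟩ := exists_factor U hU t
  exact lambda_comp hD h1 h2 h3 (U i).ι lam t ((h i).2 Ω t)

end pol

/-- **POLLOCAL** -/
theorem main : K540.Ag.Node.PolLocal.{u} := by
  intro T _ A _ _ g d hA κ U hU c hc h
  have := hA.smooth
  have := hA.proper
  have := hA.geomConnected
  have hint : GeometricallyIntegral A.hom := K814.AbBasic.geometricallyIntegral A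
  obtain ⟨L, hL, rfl⟩ := exists_mk c
  have hrel : RelAmple.IsRelAmple A.hom L := by
    refine GeomAmple.isRelAmple_of_geom A.hom L hL fun Ω _ _ t => ?_
    obtain ⟨i, t, rfl⟩ := exists_factor U hU t
    have h1 := h i
    have i1 : IsLocallyNoetherian (U i : Scheme.{u}) := isLocallyNoetherian_of_isOpenImmersion (U i).ι
    have i2 : IsProper (Red.bc (U i).ι A).hom := inferInstanceAs (IsProper (pullback.snd A.hom (U i).ι))
    rw [pull_mk _ hL] at h1
    have h2 := Amp.main _ _ g d (PolBC.isAbSch_bc (U i).ι hA) _ _ h1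
    have h3 := Ega2.RelAmp.relAmple_baseChange (Red.bc (U i).ι A).hom t _ h2
    rw [Ega2.RelAmp.isRelAmple_iff_isAmple, ← Models2.AmplePull.isAmple_pullback_comp] at h3
    let e : (Red.bc t (Red.bc (U i).ι A)).left ≅ (Red.bc (t ≫ (U i).ι) A).left :=
      pullbackLeftPullbackSndIso A.hom (U i).ι t
    have e1 : pullback.fst (Red.bc (U i).ι A).hom t ≫ pullback.fst A.hom (U i).ι =
      e.hom ≫ pullback.fst A.hom (t ≫ (U i).ι) := (pullbackLeftPullbackSndIso_hom_fst _ _ _).symm
    rwa [Models2.AmplePull.isAmple_pullback_congr e1, Models2.AmplePull.isAmple_pullback_iff_of_isIso] at h3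
  obtain ⟨At, _, _, φ, ξ, hAt, hD, h1, h2, h3, -, -⟩ := K814.DualNode.exists_dual hA hL hrel
  have i1 : ∀ i, IsProper (Red.bc (U i).ι A).hom := fun i => inferInstanceAs (IsProper (pullback.snd A.hom (U i).ι))
  have i2 : ∀ i, GeometricallyIntegral (Red.bc (U i).ι A).hom := fun i =>
    inferInstanceAs (GeometricallyIntegral (pullback.snd A.hom (U i).ι))
  have i3 : ∀ i, Flat (Red.bc (U i).ι A).hom := fun i => inferInstanceAs (Flat (pullback.snd A.hom (U i).ι))
  have i4 : ∀ i, LocallyOfFinitePresentation (Red.bc (U i).ι A).hom := fun i =>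
    inferInstanceAs (LocallyOfFinitePresentation (pullback.snd A.hom (U i).ι))
  choose lam hpol hdeg hcl using fun i => K513.PolUniq.exists_lam (isDualAV_bc hD) (bcXi_mem_pz h1) (bcXi_mem_rg h2)
    (PolBC.cm_bcXi_eq (U i).ι hD h1 h3) (h i)
  obtain ⟨l, hl, hlam⟩ := LocGlue.exists_glue U hU (K814.MumHom.hom φ (mk L hL)) lam (fun i => (hpol i).1) fun i => by
    rw [K814.MumHom.hom_bc hD, hcl i]
    exact K513.PolUniq.hom_polCl (isDualAV_bc hD) (bcXi_mem_pz h1) (bcXi_mem_rg h2)
      (PolBC.cm_bcXi_eq (U i).ι hD h1 h3) (hpol i)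
  refine ⟨At, inferInstance, inferInstance, φ, ξ, l, hD, h1, h2, h3,
    isPolarization_of_local U hU hD h1 h2 h3 hl fun i => ?_, hasDegSq_of_local U hU fun i => ?_, ?_⟩
  · rw [hlam]
    exact hpol i
  · rw [hlam]
    exact hdeg i
  · refine LocGlue.cls_ext U hU hc (FamCore.rig h2 l) fun i => ?_
    rw [PolClBC.pull_ev_bc, hlam, hcl i]

end K533.PolLocal
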