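import Groth.Agent.Mor.K386.VeryAmple
import Groth.Agent.Grpsch.PicGrp
import Groth.Agent.Ega4dA.ParaCrit

/-!
# Powers of a relatively ample module are very ample locally on a Noetherian base, uniformly
-/

set_option autoImplicit false
universe u

open CategoryTheory Limits AlgebraicGeometry

namespace K533.RelVA

open Groth.Agent Groth.Agent.Grpsch.PicGrp

variable {X S : Scheme.{u}}

/-- Relative very ampleness only depends on the isomorphism class. -/
theorem of_iso {f : X ⟶ S} {L M : X.Modules} (e : Nonempty (M ≅ L)) (h : RelAmple.IsRelVeryAmplePn f L) :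
    RelAmple.IsRelVeryAmplePn f M := by
  obtain ⟨n, i, h1, h2, ⟨e'⟩⟩ := h
  obtain ⟨e⟩ := e
  exact ⟨n, i, h1, h2, ⟨e ≪≫ e'⟩⟩

/-- The class of a restriction. -/
theorem mk_restrict {L : X.Modules} (hL : PicF.IsInvertible L) (U : X.Opens)
    (hU : PicF.IsInvertible (L.restrict U.ι)) : mk (L.restrict U.ι) hU = pull U.ι (mk L hL) := by
  rw [pull_mk]
  exact mk_congr ((Scheme.Modules.restrictFunctorIsoPullback U.ι).app L)

theorem nonempty_iso {L F : X.Modules} (hL : PicF.IsInvertible L) (hF : PicF.IsInvertible F) {k : ℕ}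
    (h : mk F hF = mk L hL ^ k) (U : X.Opens) :
    Nonempty (F.restrict U.ι ≅ CohB1.tensorPow (L.restrict U.ι) k) := by
  have hF' : PicF.IsInvertible (F.restrict U.ι) := Ega4dA.ParaCrit.isInvertible_restrict hF _
  have hL' : PicF.IsInvertible (L.restrict U.ι) := Ega4dA.ParaCrit.isInvertible_restrict hL _
  have e := mk_tensorPow hL' k
  rw [mk_restrict hL, ← map_pow, ← h, ← mk_restrict hF U hF'] at e
  exact (mk_eq_iff _ _).1 e.symm

/-- **Uniform relative very ampleness.** -/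
theorem exists_va [IsNoetherian S] (π : X ⟶ S) [LocallyOfFiniteType π] (L : X.Modules) (hL : PicF.IsInvertible L)
    (h : RelAmple.IsRelAmple π L) : ∃ k₀ : ℕ, ∀ k, k₀ ≤ k → ∀ (F : X.Modules) (hF : PicF.IsInvertible F),
      mk F hF = mk L hL ^ k → ∀ s : S, ∃ V : S.Opens, s ∈ V ∧ IsAffineOpen V ∧
        RelAmple.IsRelVeryAmplePn (π ∣_ V) (F.restrict (π ⁻¹ᵁ V).ι) := by
  have key : ∀ s : S, ∃ (V : S.Opens) (n : ℕ), s ∈ V ∧ IsAffineOpen V ∧ ∀ k, n ≤ k →
      RelAmple.IsRelVeryAmplePn (π ∣_ V) (CohB1.tensorPow (L.restrict (π ⁻¹ᵁ V).ι) k) := by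
    intro s
    obtain ⟨V, hV, hs, -⟩ := exists_isAffineOpen_mem_and_subset (x := s) (U := ⊤) trivial
    obtain ⟨n, hn⟩ := K386.VeryAmple.exists_forall_isRelVeryAmplePn (π ∣_ V) (h.2 ⟨V, hV⟩)
    exact ⟨V, n, hs, hV, hn⟩
  choose V n hs hV hn using key
  obtain ⟨t, ht⟩ := isCompact_univ.elim_nhds_subcover (fun s => (V s : Set S))
    (fun s _ => (V s).2.mem_nhds (hs s))
  refine ⟨t.sup n, fun k hk F hF hFc s => ?_⟩
  obtain ⟨x, hx, hsx⟩ := Set.mem_iUnion₂.1 (ht.2 (Set.mem_univ s))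
  exact ⟨V x, hsx, hV x, of_iso (nonempty_iso hL hF hFc _) (hn x k ((Finset.le_sup hx).trans hk))⟩

end K533.RelVA
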