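import Groth.Agent.AgPol.K652.QPNodes
import Groth.Agent.AgPol.K513.PolUniq
import Groth.Agent.AgPol.K116.ChIso

/-!
# The nodes `PolUniqK` and `IsoPol` of `K652.QPNodes`
-/

set_option autoImplicit false
universe u

open CategoryTheory Limits MonoidalCategory CartesianMonoidalCategory AlgebraicGeometry

namespace K533.PolUniqK

/-- **POLUNIQ-K** -/
theorem main : K652.QPNodes.PolUniqK.{u} :=
  fun _ _ A _ _ g d K hK hA c c' hc hc' h => K513.PolUniq.pow_inj A g d K hK hA c c' hc hc' h

/-- **ISOPOL** -/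
theorem isoPol : K652.QPNodes.IsoPol.{u} :=
  fun _ _ _ _ _ _ _ _ _ _ hB e he _ hc =>
    haveI := he
    K116.ChIso.isPolCl_of_iso hB e hc

end K533.PolUniqK
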